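import Cfsg.Agent.H934.OutCl
import Cfsg.Agent.H783.PglSpor
import Cfsg.Agent.S0254
import Cfsg.Agent.S2119
import Cfsg.Agent.S2121
import Cfsg.Agent.S2122
import Cfsg.Agent.S2126
import Cfsg.Agent.S2130

/-!
# S4816: the orders of the outer automorphism groups of the groups of the list `Surv` (helper199)

`Idx S` is the order of `Out S`.
-/

set_option autoImplicit false
set_option linter.unusedSectionVars false

namespace Cfsg.Agent.H199.RIM

open Cfsg Matrix Cfsg.Agent.H934.OutB

universe u v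

/-- the order of `Out S` -/
noncomputable abbrev Idx (S : Type*) [Group S] : ℕ := (MulAut.conj : S →* MulAut S).range.index

theorem idx_congr {S : Type u} {X : Type v} [Group S] [Group X] (e : S ≃* X) : Idx S = Idx X := card_out_congr e

theorem simple_of {S : Type u} {X : Type v} [Group S] [Group X] [IsSimpleGroup S] (e : S ≃* X) : IsSimpleGroup X :=
  e.symm.isSimpleGroup

theorem not_comm_of {S : Type u} {X : Type v} [Group S] [Group X] (hna : ¬ IsMulCommutative S) (e : S ≃* X) :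
    ¬ IsMulCommutative X := by
  intro h
  apply hna
  refine ⟨⟨fun a b => e.injective ?_⟩⟩
  rw [map_mul, map_mul]
  exact h.is_comm.comm _ _

/-- odd primes do not divide `2 ^ k` -/
theorem not_dvd_pow {p k : ℕ} (hp : p.Prime) (h2 : p ≠ 2) : ¬ p ∣ 2 ^ k := fun h =>
  h2 ((Nat.prime_dvd_prime_iff_eq hp Nat.prime_two).mp (hp.dvd_of_dvd_pow h))

variable {S : Type u} [Group S] [Finite S] [IsSimpleGroup S]

/-- the linear groups -/
theorem idx_psl (hna : ¬ IsMulCommutative S) {F : Type v} [Field F] [Fintype F] {r f n : ℕ} (hr : r.Prime) (hf : 1 ≤ f)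
    (hF : Fintype.card F = r ^ f) (hn : 2 ≤ n) (h2 : n = 2 → 4 ≤ r ^ f)
    (e : S ≃* ProjectiveSpecialLinearGroup (Fin n) F) :
    Idx S = (if n = 2 then 1 else 2) * f * Nat.gcd n (r ^ f - 1) := by
  have := Fact.mk hr
  have := simple_of e
  have := Cfsg.Agent.H934.OutCl.finite_psl (F := F) n
  have h1 := Cfsg.Agent.S0813.result (F := F) r f hf hF n hn h2
  rw [Cfsg.Agent.H934.OutCl.card_pgl hn, ← mul_assoc, hF] at h1
  rw [idx_congr e]
  exact card_out_of_aut (not_comm_of hna e) h1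

/-- the unitary groups -/
theorem idx_psu (hna : ¬ IsMulCommutative S) {F : Type v} [Field F] [Fintype F] {r f n q : ℕ} (hr : r.Prime)
    (hf : 1 ≤ f) (hq : q = r ^ f) (hF : Fintype.card F = q ^ 2) (hn : 3 ≤ n) (h32 : ¬ (n = 3 ∧ q = 2))
    (e : S ≃* PSU n F q) : Idx S = Nat.gcd n (q + 1) * (2 * f) := by
  have := Fact.mk hr
  have := simple_of e
  have : Finite (PSU n F q) := Finite.of_equiv S e.toEquiv
  rw [idx_congr e]
  exact card_out_of_aut (not_comm_of hna e) (Cfsg.Agent.S0815.result (F := F) r f hf hq hF n hn h32)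

/-- the symplectic groups -/
theorem idx_psp (hna : ¬ IsMulCommutative S) {F : Type v} [Field F] [Fintype F] {r f m : ℕ} (hr : r.Prime)
    (hf : 1 ≤ f) (hF : Fintype.card F = r ^ f) (hm : 2 ≤ m) (h22 : m = 2 → 3 ≤ r ^ f) (e : S ≃* PSp m F) :
    Idx S = (if m = 2 ∧ r = 2 then 2 else 1) * Nat.gcd 2 (r ^ f - 1) * f := by
  have := Fact.mk hr
  have := simple_of e
  have : Finite (PSp m F) := Finite.of_equiv S e.toEquiv
  rw [idx_congr e]
  exact card_out_of_aut (not_comm_of hna e) (Cfsg.Agent.S0814.result (F := F) r f hf hF m hm h22)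

/-- the orthogonal groups of odd dimension -/
theorem idx_podd (hna : ¬ IsMulCommutative S) {F : Type v} [Field F] [Fintype F] {r f m : ℕ} (hr : r.Prime)
    (hf : 1 ≤ f) (hF : Fintype.card F = r ^ f) (hodd : Odd r) (hm : 3 ≤ m) (e : S ≃* POmega F (quadFormOdd m F)) :
    Idx S = 2 * f := by
  have := Fact.mk hr
  have := simple_of e
  have : Finite (POmega F (quadFormOdd m F)) := Finite.of_equiv S e.toEquiv
  rw [idx_congr e]
  exact card_out_of_aut (not_comm_of hna e) (Cfsg.Agent.S0816.result (F := F) r f hf hF hodd m hm)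

/-- the orthogonal groups of plus type -/
theorem idx_plus (hna : ¬ IsMulCommutative S) {F : Type v} [Field F] [Fintype F] {r f m : ℕ} (hr : r.Prime)
    (hf : 1 ≤ f) (hF : Fintype.card F = r ^ f) (hm : 4 ≤ m) (e : S ≃* POmega F (quadFormPlus m F)) :
    Idx S = (if m = 4 then 3 else 1) * (if r = 2 then 2 else (if Even (m * (r ^ f - 1) / 2) then 8 else 4)) * f := by
  have := Fact.mk hr
  have := simple_of e
  have : Finite (POmega F (quadFormPlus m F)) := Finite.of_equiv S e.toEquiv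
  rw [idx_congr e]
  exact card_out_of_aut (not_comm_of hna e) (Cfsg.Agent.S0817.result (F := F) r f hf hF m hm)

/-- the orthogonal groups of minus type -/
theorem idx_minus (hna : ¬ IsMulCommutative S) {F : Type v} [Field F] [Fintype F] {r f m : ℕ} (hr : r.Prime)
    (hf : 1 ≤ f) (hF : Fintype.card F = r ^ f) (hm : 4 ≤ m) (a b : F)
    (hab : ∀ z₁ z₂ : F, z₁ ^ 2 + a * z₁ * z₂ + b * z₂ ^ 2 = 0 → z₁ = 0 ∧ z₂ = 0)
    (e : S ≃* POmega F (quadFormMinus (m - 1) F a b)) :
    Idx S = (if r = 2 then 2 else (if Even (m * (r ^ f - 1) / 2) then 4 else 8)) * f := by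
  have := Fact.mk hr
  have := simple_of e
  have : Finite (POmega F (quadFormMinus (m - 1) F a b)) := Finite.of_equiv S e.toEquiv
  rw [idx_congr e]
  exact card_out_of_aut (not_comm_of hna e) (Cfsg.Agent.S0818.result (F := F) r f hf hF m hm a b hab)

/-- the alternating groups -/
theorem idx_alt (hna : ¬ IsMulCommutative S) {n : ℕ} (hn : 5 ≤ n) (h6 : n ≠ 6) (e : S ≃* alternatingGroup (Fin n)) :
    Idx S = 2 := by
  have := simple_of e
  have : Nontrivial (Fin n) := Fin.nontrivial_iff_two_le.2 (by omega)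
  rw [idx_congr e]
  apply card_out_of_aut (not_comm_of hna e)
  have h1 := Nat.card_congr (Equiv.ofBijective _ (Cfsg.Agent.S2119.result n (by omega) h6))
  rw [← h1, Nat.card_eq_fintype_card, Nat.card_eq_fintype_card, two_mul_card_alternatingGroup]

/-- `|Out A_6| = 4` -/
theorem idx_alt_six (hna : ¬ IsMulCommutative S) (e : S ≃* alternatingGroup (Fin 6)) : Idx S = 4 := by
  have : Fact (Nat.Prime 3) := ⟨by norm_num⟩
  have : Fintype (GaloisField 3 2) := Fintype.ofFinite _
  have hF : Fintype.card (GaloisField 3 2) = 9 := by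
    rw [← Nat.card_eq_fintype_card, GaloisField.card 3 2 (by norm_num)]
    norm_num
  obtain ⟨e'⟩ := Cfsg.Agent.S0254.result hF
  rw [idx_psl hna (F := GaloisField 3 2) (r := 3) (f := 2) (n := 2) (by norm_num) (by norm_num)
    (by rw [hF]; norm_num) le_rfl (by norm_num) (e.trans e'.symm)]
  norm_num

/-- the alternating groups -/
theorem nout_alt (hna : ¬ IsMulCommutative S) {p n : ℕ} (hp : p.Prime) (h2 : p ≠ 2) (hn : 5 ≤ n)
    (e : S ≃* alternatingGroup (Fin n)) : ¬ p ∣ Idx S := by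
  rcases eq_or_ne n 6 with rfl | h6
  · rw [idx_alt_six hna e]
    exact not_dvd_pow (k := 2) hp h2
  · rw [idx_alt hna hn h6 e]
    exact not_dvd_pow (k := 1) hp h2

/-- the sporadic groups -/
theorem nout_spor {p : ℕ} (hp : p.Prime) (h2 : p ≠ 2) (h : IsSporadicGroup S) : ¬ p ∣ Idx S := fun hd =>
  not_dvd_pow (k := 1) hp h2 (hd.trans (Cfsg.Agent.H783.PglSpor.index_spor h))

/-- the Tits group -/
theorem nout_tits {p : ℕ} (hp : p.Prime) (h2 : p ≠ 2) (h : Lie.IsoTits S) : ¬ p ∣ Idx S := fun hd =>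
  not_dvd_pow (k := 1) hp h2 (hd.trans (Cfsg.Agent.H783.PglSpor.index_tits h))

section Lie

variable {F : Type v} [Field F] [Fintype F]

theorem charP_of {r f : ℕ} (hr : r.Prime) (hF : Fintype.card F = r ^ f) : CharP F r := by
  have := Fact.mk hr
  exact charP_of_card_eq_prime_pow hF

omit [Finite S] [IsSimpleGroup S] in
theorem idx_g2 {r f : ℕ} (hr : r.Prime) (hF : Fintype.card F = r ^ f) (hq : 3 ≤ r ^ f) (e : S ≃* ↥(Lie.chevG2.group F)) :
    Idx S = if r = 3 then 2 * f else f := by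
  have := Fact.mk hr
  have := charP_of hr hF
  rw [idx_congr e]
  exact Cfsg.Agent.S2121.result r f hF hq

omit [Finite S] [IsSimpleGroup S] in
theorem idx_f4 {r f : ℕ} (hr : r.Prime) (hF : Fintype.card F = r ^ f) (e : S ≃* ↥(Lie.chevF4.group F)) :
    Idx S = Nat.gcd 2 r * f := by
  have := Fact.mk hr
  have := charP_of hr hF
  rw [idx_congr e]
  exact Cfsg.Agent.S2122.result r f hF

omit [Finite S] [IsSimpleGroup S] in
theorem idx_sz {m : ℕ} (hm : 1 ≤ m) (hF : Fintype.card F = 2 ^ (2 * m + 1)) (e : S ≃* ↥(Lie.Sz F (2 ^ (m + 1)))) :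
    Idx S = 2 * m + 1 := by
  rw [idx_congr e]
  exact Cfsg.Agent.S2126.result hm hF

omit [Finite S] [IsSimpleGroup S] in
theorem idx_2e6 {r f : ℕ} (hr : r.Prime) (hF : Fintype.card F = r ^ (2 * f)) (hf : 1 ≤ f)
    (e : S ≃* ↥(Lie.twistedE6 F (r ^ f))) : Idx S = 2 * Nat.gcd 3 (r ^ f + 1) * f := by
  have := Fact.mk hr
  have := charP_of hr hF
  rw [idx_congr e]
  exact Cfsg.Agent.S2130.result r f hF hf

end Lie

/-! ## The members of the list -/

section surv

variable {F : Type v} [Field F] [Fintype F]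

theorem idx_l34 (hna : ¬ IsMulCommutative S) (hF : Fintype.card F = 4) (e : S ≃* ProjectiveSpecialLinearGroup (Fin 3) F) :
    Idx S = 12 := by
  rw [idx_psl hna (r := 2) (f := 2) (n := 3) (by norm_num) (by norm_num) (by rw [hF]; norm_num) (by norm_num)
    (by norm_num) e]
  norm_num

theorem idx_u43 (hna : ¬ IsMulCommutative S) (hF : Fintype.card F = 9) (e : S ≃* PSU 4 F 3) : Idx S = 8 := by
  rw [idx_psu hna (r := 3) (f := 1) (n := 4) (q := 3) (by norm_num) (by norm_num) (by norm_num) (by rw [hF]; norm_num)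
    (by norm_num) (by norm_num) e]
  norm_num

theorem idx_u62 (hna : ¬ IsMulCommutative S) (hF : Fintype.card F = 4) (e : S ≃* PSU 6 F 2) : Idx S = 6 := by
  rw [idx_psu hna (r := 2) (f := 1) (n := 6) (q := 2) (by norm_num) (by norm_num) (by norm_num) (by rw [hF]; norm_num)
    (by norm_num) (by norm_num) e]
  norm_num

theorem idx_sp62 (hna : ¬ IsMulCommutative S) (hF : Fintype.card F = 2) (e : S ≃* PSp 3 F) : Idx S = 1 := by
  rw [idx_psp hna (r := 2) (f := 1) (m := 3) (by norm_num) (by norm_num) (by rw [hF]; norm_num) (by norm_num)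
    (by norm_num) e]
  norm_num

theorem idx_o8p2 (hna : ¬ IsMulCommutative S) (hF : Fintype.card F = 2) (e : S ≃* POmega F (quadFormPlus 4 F)) :
    Idx S = 6 := by
  rw [idx_plus hna (r := 2) (f := 1) (m := 4) (by norm_num) (by norm_num) (by rw [hF]; norm_num) (by norm_num) e]
  norm_num

theorem idx_o73 (hna : ¬ IsMulCommutative S) (hF : Fintype.card F = 3) (e : S ≃* POmega F (quadFormOdd 3 F)) :
    Idx S = 2 := by
  rw [idx_podd hna (r := 3) (f := 1) (m := 3) (by norm_num) (by norm_num) (by rw [hF]; norm_num) (by decide)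
    (by norm_num) e]

omit [Finite S] [IsSimpleGroup S] in
theorem idx_g23 (hF : Fintype.card F = 3) (e : S ≃* ↥(Lie.chevG2.group F)) : Idx S = 2 := by
  rw [idx_g2 (r := 3) (f := 1) (by norm_num) (by rw [hF]; norm_num) (by norm_num) e]
  norm_num

omit [Finite S] [IsSimpleGroup S] in
theorem idx_g24 (hF : Fintype.card F = 4) (e : S ≃* ↥(Lie.chevG2.group F)) : Idx S = 2 := by
  rw [idx_g2 (r := 2) (f := 2) (by norm_num) (by rw [hF]; norm_num) (by norm_num) e]
  norm_num

omit [Finite S] [IsSimpleGroup S] in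
theorem idx_f42 (hF : Fintype.card F = 2) (e : S ≃* ↥(Lie.chevF4.group F)) : Idx S = 2 := by
  rw [idx_f4 (r := 2) (f := 1) (by norm_num) (by rw [hF]; norm_num) e]
  norm_num

omit [Finite S] [IsSimpleGroup S] in
theorem idx_2e62 (hF : Fintype.card F = 4) (e : S ≃* ↥(Lie.twistedE6 F 2)) : Idx S = 6 := by
  rw [idx_2e6 (r := 2) (f := 1) (by norm_num) (by rw [hF]; norm_num) (by norm_num) (by simpa using e)]
  norm_num

omit [Finite S] [IsSimpleGroup S] in
theorem idx_sz8 (hF : Fintype.card F = 8) (e : S ≃* ↥(Lie.Sz F 4)) : Idx S = 3 := by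
  rw [idx_sz (m := 1) le_rfl (by rw [hF]; norm_num) (by simpa using e)]

end surv

end Cfsg.Agent.H199.RIM
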