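import Mathlib

/-!
# S4816: `p` divides `|G : E C_G(E)|`, `E` perfect and normal: `p` divides `|Out (E / Z(E))|` (helper199)
-/

set_option autoImplicit false
set_option linter.unusedSectionVars false

namespace Cfsg.Agent.H199.RIM

open Subgroup
open scoped commutatorElement

variable {G : Type*} [Group G]

/-- automorphisms of `E` on `E / Z(E)` -/
noncomputable def toQ (E : Type*) [Group E] : MulAut E →* MulAut (E ⧸ center E) where
  toFun α := QuotientGroup.congr (center E) (center E) α (by
    have h : (center E).map (α : E →* E) = center E := (characteristic_iff_map_eq.mp inferInstance) α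
    exact h)
  map_one' := by
    ext x
    obtain ⟨x, rfl⟩ := QuotientGroup.mk_surjective x
    rfl
  map_mul' α β := by
    ext x
    obtain ⟨x, rfl⟩ := QuotientGroup.mk_surjective x
    rfl

theorem toQ_mk {E : Type*} [Group E] (α : MulAut E) (x : E) :
    toQ E α (x : E ⧸ center E) = ((α x : E) : E ⧸ center E) := rfl

/-- an automorphism of a perfect group which is trivial modulo the centre is trivial -/
theorem eq_one_of_toQ {E : Type*} [Group E] (hE : commutator E = ⊤) {α : MulAut E} (h : toQ E α = 1) : α = 1 := by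
  have h1 : ∀ x : E, x⁻¹ * α x ∈ center E := fun x => by
    have h2 := toQ_mk α x
    rw [h] at h2
    exact QuotientGroup.eq.mp h2
  let f : E →* center E :=
    { toFun := fun x => ⟨x⁻¹ * α x, h1 x⟩
      map_one' := Subtype.ext (by simp)
      map_mul' := fun x y => Subtype.ext (by
        have h3 := mem_center_iff.mp (h1 x) y⁻¹
        show (x * y)⁻¹ * α (x * y) = x⁻¹ * α x * (y⁻¹ * α y)
        rw [map_mul, mul_inv_rev, mul_assoc, ← mul_assoc x⁻¹, ← mul_assoc y⁻¹, h3, mul_assoc]) }
  have h2 : ∀ x : E, f x = 1 := by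
    intro x
    have h3 : commutator E ≤ f.ker := by
      rw [commutator_def, commutator_le]
      intro a _ b _
      rw [MonoidHom.mem_ker, map_commutatorElement, commutatorElement_eq_one_iff_mul_comm]
      exact Subtype.ext (mem_center_iff.mp (f b).2 (f a).1)
    rw [hE] at h3
    exact MonoidHom.mem_ker.mp (h3 (mem_top x))
  ext x
  have h3 : x⁻¹ * α x = 1 := congrArg Subtype.val (h2 x)
  exact (inv_mul_eq_one.mp h3).symm

/-- the action of `G` on `E / Z(E)` -/
noncomputable def actQ (E : Subgroup G) [E.Normal] : G →* MulAut (E ⧸ center E) := (toQ E).comp MulAut.conjNormal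

theorem actQ_ker (E : Subgroup G) [E.Normal] (hE : commutator E = ⊤) : (actQ E).ker = centralizer (E : Set G) := by
  ext g
  rw [MonoidHom.mem_ker, mem_centralizer_iff]
  constructor
  · intro h x hx
    have h1 : MulAut.conjNormal g = (1 : MulAut E) := eq_one_of_toQ hE h
    have h2 := congrArg (fun α : MulAut E => ((α ⟨x, hx⟩ : E) : G)) h1
    simp only [MulAut.conjNormal_apply, MulAut.one_apply] at h2
    rw [mul_inv_eq_iff_eq_mul] at h2
    exact h2.symm
  · intro h
    have h1 : MulAut.conjNormal g = (1 : MulAut E) := by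
      ext x
      rw [MulAut.conjNormal_apply, MulAut.one_apply, ← h x x.2, mul_inv_cancel_right]
    show toQ E (MulAut.conjNormal g) = 1
    rw [h1, map_one]

theorem actQ_map (E : Subgroup G) [E.Normal] :
    E.map (actQ E) = (MulAut.conj : (E ⧸ center E) →* MulAut (E ⧸ center E)).range := by
  have h1 : ∀ x : E, actQ E (x : G) = MulAut.conj ((x : E) : E ⧸ center E) := by
    intro x
    ext y
    obtain ⟨y, rfl⟩ := QuotientGroup.mk_surjective y
    show ((MulAut.conjNormal (x : G) y : E) : E ⧸ center E) = _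
    rw [MulAut.conj_apply, ← QuotientGroup.mk_mul, ← QuotientGroup.mk_inv, ← QuotientGroup.mk_mul]
    congr 1
  ext α
  constructor
  · rintro ⟨x, hx, rfl⟩
    exact ⟨((⟨x, hx⟩ : E) : E ⧸ center E), (h1 ⟨x, hx⟩).symm⟩
  · rintro ⟨y, rfl⟩
    obtain ⟨y, rfl⟩ := QuotientGroup.mk_surjective y
    exact ⟨y, y.2, h1 y⟩

/-- `|G : E C_G(E)|` divides `|Out (E / Z(E))|` -/
theorem index_dvd (E : Subgroup G) [E.Normal] (hE : commutator E = ⊤) :
    (E ⊔ centralizer (E : Set G)).index ∣ (MulAut.conj : (E ⧸ center E) →* MulAut (E ⧸ center E)).range.index := by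
  have h1 : (E ⊔ centralizer (E : Set G)) = (E.map (actQ E)).comap (actQ E) := by
    rw [comap_map_eq, actQ_ker E hE]
  rw [h1, actQ_map, index_comap]
  have h2 : (MulAut.conj : (E ⧸ center E) →* MulAut (E ⧸ center E)).range ≤ (actQ E).range := by
    rw [← actQ_map]
    exact map_le_range _ _
  exact ⟨_, (relIndex_mul_index h2).symm⟩

/-- **`RowOut`, the outer automorphism group** -/
theorem out_dvd {p : ℕ} (E : Subgroup G) (hn : E.Normal) (hE : commutator E = ⊤)
    (h : p ∣ (E ⊔ centralizer (E : Set G)).index) :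
    p ∣ (MulAut.conj : (E ⧸ center E) →* MulAut (E ⧸ center E)).range.index :=
  h.trans (index_dvd E hE)

/-- the same with an isomorphism -/
theorem out_dvd_equiv {p : ℕ} (E : Subgroup G) (hn : E.Normal) (hE : commutator E = ⊤)
    (h : p ∣ (E ⊔ centralizer (E : Set G)).index) {S : Type*} [Group S] (e : (E ⧸ center E) ≃* S) :
    p ∣ (MulAut.conj : S →* MulAut S).range.index := by
  have h1 : (MulAut.conj : (E ⧸ center E) →* MulAut (E ⧸ center E)).range.map (MulAut.congr e).toMonoidHom =
      (MulAut.conj : S →* MulAut S).range := by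
    ext φ
    constructor
    · rintro ⟨_, ⟨g, rfl⟩, rfl⟩
      refine ⟨e g, ?_⟩
      ext y
      show e g * y * (e g)⁻¹ = e (g * e.symm y * g⁻¹)
      simp
    · rintro ⟨g, rfl⟩
      refine ⟨MulAut.conj (e.symm g), ⟨_, rfl⟩, ?_⟩
      ext y
      show e (e.symm g * e.symm y * (e.symm g)⁻¹) = g * y * g⁻¹
      simp
  have h2 := (index_map_equiv (MulAut.conj : (E ⧸ center E) →* MulAut (E ⧸ center E)).range (MulAut.congr e))
  have h3 := out_dvd E hn hE h
  rw [← h2] at h3
  rwa [← h1]

end Cfsg.Agent.H199.RIM
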