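import Cfsg.Agent.H199.RIM.OutA
import Cfsg.Agent.H199.RIM.OutB
import Cfsg.Agent.H325.RIM.Surv

/-!
# S4816: a member of the list `Surv` with an outer automorphism of odd prime order `p` (helper199)

`surv_out` : it is `PSL_2(q)`, `p ∣ q`, or `PSL_3(4)` with `p = 3`.
-/

set_option autoImplicit false
set_option linter.unusedSectionVars false

namespace Cfsg.Agent.H199.RIM

open Cfsg Cfsg.Agent.OrdDiv Cfsg.Agent.H436 Cfsg.Agent.H325.RIM

universe u

theorem not_dvd_of {p m : ℕ} (hp : p.Prime) {n : ℕ} (hn : n = m) (h : ∀ r ∈ m.primeFactorsList, r ≠ p) (hm : m ≠ 0) :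
    ¬ p ∣ n := by
  subst hn
  intro hd
  exact h p ((Nat.mem_primeFactorsList hm).mpr ⟨hp, hd⟩) rfl

/-- **the members of the list with an outer automorphism of order `p`** -/
theorem surv_out {p : ℕ} (hp : p.Prime) (h2 : p ≠ 2) {S : Type u} [Group S] [Finite S] [IsSimpleGroup S]
    (hna : ¬ IsMulCommutative S) (h : Surv p S) (hd : p ∣ Idx S) :
    (∃ q : ℕ, Real (.psl 2 q) S ∧ p ∣ q) ∨ (Real (.psl 3 4) S ∧ p = 3) := by
  obtain ⟨g, hg, hs⟩ := h
  have hr := hg.real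
  cases g <;> simp only [SurvN] at hs
  case alt n =>
    exfalso
    obtain ⟨e⟩ := hr
    exact nout_alt hna hp h2 (by omega) e hd
  case psl n q =>
    rcases hs with ⟨rfl, hq⟩ | ⟨rfl, rfl, h3⟩
    · exact Or.inl ⟨q, hr, hq⟩
    · rcases h3 with rfl | rfl | rfl
      · exact Or.inr ⟨hr, rfl⟩
      · exfalso
        obtain ⟨F, _, _, hF, ⟨e⟩⟩ := hr
        rw [idx_l34 hna hF e] at hd
        omega
      · exfalso
        obtain ⟨F, _, _, hF, ⟨e⟩⟩ := hr
        rw [idx_l34 hna hF e] at hd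
        omega
  case psu n q =>
    exfalso
    rcases hs with ⟨rfl, rfl, h3⟩ | ⟨rfl, rfl, h3⟩
    · obtain ⟨F, _, _, hF, ⟨e⟩⟩ := hr
      rw [idx_u43 hna (by rw [hF]; norm_num) e] at hd
      exact not_dvd_pow (k := 3) hp h2 hd
    · obtain ⟨F, _, _, hF, ⟨e⟩⟩ := hr
      rw [idx_u62 hna (by rw [hF]; norm_num) e] at hd
      rcases h3 with rfl | rfl | rfl <;> omega
  case psp m q =>
    exfalso
    obtain ⟨rfl, rfl, h3⟩ := hs
    obtain ⟨F, _, _, hF, ⟨e⟩⟩ := hr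
    rw [idx_sp62 hna hF e] at hd
    exact hp.one_lt.ne' (Nat.dvd_one.mp hd)
  case oodd m q =>
    exfalso
    obtain ⟨rfl, rfl, h3⟩ := hs
    obtain ⟨F, _, _, hF, ⟨e⟩⟩ := hr
    rw [idx_o73 hna hF e] at hd
    exact not_dvd_pow (k := 1) hp h2 hd
  case oplus m q =>
    exfalso
    obtain ⟨rfl, rfl, h3⟩ := hs
    obtain ⟨F, _, _, hF, ⟨e⟩⟩ := hr
    rw [idx_o8p2 hna hF e] at hd
    rcases h3 with rfl | rfl <;> omega
  case g2 q =>
    exfalso
    rcases hs with ⟨rfl, h3⟩ | ⟨rfl, h3⟩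
    · obtain ⟨F, _, _, hF, ⟨e⟩⟩ := hr
      rw [idx_g23 hF e] at hd
      exact not_dvd_pow (k := 1) hp h2 hd
    · obtain ⟨F, _, _, hF, ⟨e⟩⟩ := hr
      rw [idx_g24 hF e] at hd
      exact not_dvd_pow (k := 1) hp h2 hd
  case f4 q =>
    exfalso
    obtain ⟨rfl, h3⟩ := hs
    obtain ⟨F, _, _, hF, ⟨e⟩⟩ := hr
    rw [idx_f42 hF e] at hd
    exact not_dvd_pow (k := 1) hp h2 hd
  case te6 q =>
    exfalso
    obtain ⟨rfl, h3⟩ := hs
    obtain ⟨F, _, _, hF, ⟨e⟩⟩ := hr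
    rw [idx_2e62 (by rw [hF]; norm_num) e] at hd
    rcases h3 with rfl | rfl | rfl | rfl | rfl | rfl <;> omega
  case sz q =>
    exfalso
    obtain ⟨rfl, h3⟩ := hs
    obtain ⟨F, _, _, m, hm, hF, hq, ⟨e⟩⟩ := hr
    have hm1 : m = 1 := by
      have h4 : 2 ^ 3 = 2 ^ (2 * m + 1) := by rw [← hq]; norm_num
      have h5 := Nat.pow_right_injective (le_refl 2) h4
      omega
    subst hm1
    rw [idx_sz le_rfl (by rw [hF]; norm_num) e] at hd
    rcases h3 with rfl | rfl | rfl <;> omega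
  all_goals
    first
    | exact absurd hs id
    | (exfalso
       obtain ⟨rfl, rfl, -⟩ := hs
       obtain ⟨F, _, _, a, b, hF, hab, ⟨e⟩⟩ := hr
       rw [idx_minus (r := 3) (f := 1) hna (by norm_num) le_rfl (by rw [hF]; norm_num) le_rfl a b hab e] at hd
       norm_num at hd
       exact not_dvd_pow (k := 2) hp h2 hd)
    | exact absurd hd (nout_spor hp h2 (by
        have h : Real _ S := hr
        change _ at h
        unfold IsSporadicGroup
        repeat (first | exact Or.inl h | exact h | apply Or.inr)))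

end Cfsg.Agent.H199.RIM
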